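import Mathlib
import Groth.Agent.CAlg1.FlatDepth

/-! Depth at a prime of a flat extension which is minimal over the extended prime. -/

set_option autoImplicit false
universe u

open IsLocalRing TensorProduct

namespace Groth.Agent.Boot94

theorem depth_localization_of_minimal {R C : Type u} [CommRing R] [IsNoetherianRing R] [CommRing C]
    [IsNoetherianRing C] [Algebra R C] [Module.Flat R C] (p : Ideal R) [p.IsPrime] (P : Ideal C) [P.IsPrime]
    [P.LiesOver p] (hP : P ∈ (p.map (algebraMap R C)).minimalPrimes)
    (M : Type u) [AddCommGroup M] [Module R M] [Module.Finite R M] (N : Type u) [AddCommGroup N] [Module R N]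
    [Module C N] [IsScalarTower R C N] (f : M →ₗ[R] N) (hf : IsBaseChange C f) :
    LocCoh.depth (Localization.AtPrime P) (LocalizedModule P.primeCompl N) =
      LocCoh.depth (Localization.AtPrime p) (LocalizedModule p.primeCompl M) := by
  let R' := Localization.AtPrime p
  let S := Localization.AtPrime P
  letI : Algebra R' S := Localization.AtPrime.algebraOfLiesOver p P
  haveI : IsLocalHom (algebraMap R' S) := Localization.isLocalHom_localRingHom _ _ _ _
  let N' := LocalizedModule P.primeCompl N
  letI : Module R' N' := Module.compHom N' (algebraMap R' S)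
  haveI : IsScalarTower R' S N' := IsScalarTower.of_compHom R' S N'
  haveI : IsScalarTower R R' N' := IsScalarTower.of_algebraMap_smul fun r x => by
    change (algebraMap R' S (algebraMap R R' r)) • x = r • x
    rw [← IsScalarTower.algebraMap_apply R R' S, algebraMap_smul]
  let g : M →ₗ[R] N' := ((LocalizedModule.mkLinearMap P.primeCompl N).restrictScalars R).comp f
  have hg : IsBaseChange S g := hf.comp (LocalizedModule.isBaseChange P.primeCompl N)
  have hM : IsBaseChange R' (LocalizedModule.mkLinearMap p.primeCompl M) := LocalizedModule.isBaseChange p.primeCompl M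
  let h : LocalizedModule p.primeCompl M →ₗ[R'] N' := hM.lift g
  have hh : IsBaseChange S h := IsBaseChange.of_comp hM (by rw [hM.lift_comp g]; exact hg)
  have hfin : Module.Finite R' (LocalizedModule p.primeCompl M) := Module.Finite.of_isLocalizedModule p.primeCompl (LocalizedModule.mkLinearMap p.primeCompl M)
  rw [← Groth.Agent.EGA4Alg4.depth_eq_of_equiv hh.equiv, Groth.Agent.CAlg1.depth_tensor_flat]
  suffices LocCoh.depth S (S ⧸ (maximalIdeal R').map (algebraMap R' S) • (⊤ : Submodule S S)) = 0 by
    rw [this, add_zero]
  set J := (maximalIdeal R').map (algebraMap R' S) • (⊤ : Submodule S S) with hJ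
  have hJ' : J = p.map (algebraMap R S) := by
    rw [hJ, Ideal.smul_eq_mul, Ideal.mul_top, ← Localization.AtPrime.map_eq_maximalIdeal (I := p), Ideal.map_map,
      ← IsScalarTower.algebraMap_eq]
  have hJne : J ≠ ⊤ := by
    rw [hJ']
    refine ne_top_of_le_ne_top (maximalIdeal.isMaximal S).ne_top ?_
    rw [← Localization.AtPrime.map_eq_maximalIdeal (I := P), IsScalarTower.algebraMap_eq R C S, ← Ideal.map_map]
    exact Ideal.map_mono hP.1.2
  haveI : Nontrivial (S ⧸ J) := Submodule.Quotient.nontrivial_iff.mpr hJne
  obtain ⟨Q, hQ⟩ := associatedPrimes.nonempty S (S ⧸ J)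
  haveI := hQ.isPrime
  have hJQ : p.map (algebraMap R S) ≤ Q := by
    rw [← hJ']
    have h1 := hQ.annihilator_le
    rw [Submodule.annihilator_top, Ideal.annihilator_quotient] at h1
    exact h1
  rw [IsScalarTower.algebraMap_eq R C S, ← Ideal.map_map, Ideal.map_le_iff_le_comap] at hJQ
  have hQP : Q.comap (algebraMap C S) ≤ P := by
    conv_rhs => rw [← IsLocalization.AtPrime.under_maximalIdeal S P]
    exact Ideal.comap_mono (le_maximalIdeal hQ.isPrime.ne_top)
  have hQmax : Q = maximalIdeal S := by
    have := hP.2 ⟨Ideal.IsPrime.under C Q, hJQ⟩ hQP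
    refine le_antisymm (le_maximalIdeal hQ.isPrime.ne_top) ?_
    rw [← Localization.AtPrime.map_eq_maximalIdeal (I := P), Ideal.map_le_iff_le_comap]
    exact this
  exact Groth.Agent.EGA4Alg4.depth_eq_zero_iff.mpr (hQmax ▸ hQ)

end Groth.Agent.Boot94
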